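import Groth.Agent.Lib.Milnor.Finite
import Groth.Agent.Lib.Milnor.Glue
import Mathlib.RingTheory.IsTensorProduct
import Mathlib.LinearAlgebra.TensorProduct.RightExactness

/-!
# Modules glued over the base change of a Milnor square
-/

set_option autoImplicit false
set_option linter.all false
set_option backward.isDefEq.respectTransparency false

universe u

open TensorProduct

namespace GrothLib.MilnorRel10

open Groth.Agent

section Pushout

variable {R S R' S' : Type u} [CommRing R] [CommRing S] [CommRing R'] [CommRing S']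
  [Algebra R S] [Algebra R R'] [Algebra R S'] [Algebra S S'] [Algebra R' S']
  [IsScalarTower R S S'] [IsScalarTower R R' S'] [Algebra.IsPushout R S R' S']

theorem surjective_algebraMap_pushout (h : Function.Surjective (algebraMap R S)) :
    Function.Surjective (algebraMap R' S') := fun z => by
  obtain ⟨y, hy⟩ := (Algebra.IsPushout.equiv R S R' S').surjective z
  obtain ⟨r, rfl⟩ := Milnor.surjective_one_tmul h y
  refine ⟨r, ?_⟩
  rw [← hy, TensorProduct.mk_apply, Algebra.IsPushout.equiv_tmul, map_one, one_mul]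

variable (R S S') in
theorem ker_pushout_le (hs : Function.Surjective (algebraMap R S)) (r : R')
    (hr : algebraMap R' S' r = 0) :
    r ∈ RingHom.ker (algebraMap R S) • (⊤ : Submodule R R') := by
  refine Milnor.mem_smul_top_of_tmul_eq_zero hs ((Algebra.IsPushout.equiv R S R' S').injective ?_)
  rw [Algebra.IsPushout.equiv_tmul, map_one, one_mul, hr, map_zero]

end Pushout

variable {B' B A' A : Type u} [CommRing B'] [CommRing B] [CommRing A'] [CommRing A]
  [Algebra B' B] [Algebra B' A'] [Algebra B A] [Algebra A' A] [Algebra B' A]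
  [IsScalarTower B' B A] [IsScalarTower B' A' A]
  {D' D C' C : Type u} [CommRing D'] [CommRing D] [CommRing C'] [CommRing C]
  [Algebra B' D'] [Algebra B D] [Algebra A' C'] [Algebra A C]
  [Algebra D' D] [Algebra B' D] [IsScalarTower B' B D] [IsScalarTower B' D' D] [Algebra.IsPushout B' B D' D]
  [Algebra D' C'] [Algebra B' C'] [IsScalarTower B' A' C'] [IsScalarTower B' D' C'] [Algebra.IsPushout B' A' D' C']
  [Algebra D' C] [Algebra B' C] [IsScalarTower B' A C] [IsScalarTower B' D' C] [Algebra.IsPushout B' A D' C]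
  [Algebra D C] [IsScalarTower D' D C]
  [Algebra C' C] [IsScalarTower D' C' C] [Algebra A' C] [IsScalarTower A' A C] [IsScalarTower A' C' C]

variable (D' D C' C) in
/-- The base change of a Milnor square is a square. -/
theorem sq_pushout (hS : Milnor.Sq B' B A' A) : Milnor.Sq D' D C' C := by
  let e' := Algebra.IsPushout.equiv B' A' D' C'
  let eA := Algebra.IsPushout.equiv B' A D' C
  refine ⟨fun z => ?_, surjective_algebraMap_pushout (R := B') (S := B) hS.surjL, fun i hi => ?_⟩
  · obtain ⟨y, rfl⟩ := eA.surjective z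
    obtain ⟨x, rfl⟩ := LinearMap.rTensor_surjective D'
      (g := (IsScalarTower.toAlgHom B' A' A).toLinearMap) hS.surjR y
    refine ⟨e' x, ?_⟩
    induction x with
    | zero => simp
    | tmul a d =>
      rw [LinearMap.rTensor_tmul, Algebra.IsPushout.equiv_tmul, Algebra.IsPushout.equiv_tmul, map_mul,
        ← IsScalarTower.algebraMap_apply, ← IsScalarTower.algebraMap_apply,
        IsScalarTower.algebraMap_apply A' A C]
      rfl
    | add a b ha hb => rw [map_add, map_add, map_add, map_add, ha, hb]
  · obtain ⟨y, rfl⟩ := e'.surjective i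
    have hcomm : ∀ x, algebraMap C' C (e' x) =
        eA ((IsScalarTower.toAlgHom B' A' A).toLinearMap.rTensor D' x) := by
      intro x
      induction x with
      | zero => simp
      | tmul a d =>
        rw [LinearMap.rTensor_tmul, Algebra.IsPushout.equiv_tmul, Algebra.IsPushout.equiv_tmul, map_mul,
          ← IsScalarTower.algebraMap_apply, ← IsScalarTower.algebraMap_apply,
          IsScalarTower.algebraMap_apply A' A C]
        rfl
      | add a b ha hb => rw [map_add, map_add, map_add, map_add, ha, hb]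
    rw [hcomm] at hi
    have hex : Function.Exact (RingHom.ker (algebraMap A' A) |>.subtype.restrictScalars B')
        (IsScalarTower.toAlgHom B' A' A).toLinearMap :=
      fun x => ⟨fun hx => ⟨⟨x, hx⟩, rfl⟩, fun ⟨y, hy⟩ => hy ▸ y.2⟩
    obtain ⟨w, rfl⟩ := (rTensor_exact D' hex hS.surjR y).mp (eA.injective (hi.trans (map_zero eA).symm))
    clear hi hcomm
    induction w with
    | zero => exact ⟨0, map_zero _, by simp⟩
    | tmul a d =>
      obtain ⟨j, hj, hja⟩ := hS.lift a a.2
      refine ⟨algebraMap B' D' j * d, ?_, ?_⟩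
      · rw [map_mul, ← IsScalarTower.algebraMap_apply, IsScalarTower.algebraMap_apply B' B D, hj,
          map_zero, zero_mul]
      · rw [LinearMap.rTensor_tmul, Algebra.IsPushout.equiv_tmul, map_mul, ← IsScalarTower.algebraMap_apply,
          IsScalarTower.algebraMap_apply B' A' C', hja]
        rfl
    | add a b ha hb =>
      obtain ⟨j, hj, e⟩ := ha
      obtain ⟨k, hk, e2⟩ := hb
      exact ⟨j + k, by rw [map_add, hj, hk, add_zero], by rw [map_add, map_add, map_add, e, e2]⟩

section Finite

variable {B' B A' A : Type u} [CommRing B'] [CommRing B] [CommRing A'] [CommRing A]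
  [Algebra B' B] [Algebra B' A'] [Algebra B A] [Algebra A' A] [Algebra B' A]
  [IsScalarTower B' B A] [IsScalarTower B' A' A]
  {N M' : Type u} [AddCommGroup N] [Module B N] [Module B' N] [IsScalarTower B' B N]
  [AddCommGroup M'] [Module A' M'] [Module B' M'] [IsScalarTower B' A' M']
  {φ : A ⊗[B] N ≃ₗ[A] A ⊗[A'] M'}

theorem glue_finite (hS : Milnor.Sq B' B A' A) [Module.Finite B N] [Module.Finite A' M'] :
    Module.Finite B' (EtMil.glue B' φ) := by
  classical
  obtain ⟨s, hs⟩ := Module.Finite.fg_top (R := B) (M := N)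
  choose g hg using fun n : N => Milnor.exists_mem_glue_fst (φ := φ) hS n
  have hM : (Submodule.span A' (Set.range fun x : EtMil.glue B' φ => (x : N × M').2)).FG := by
    rw [Milnor.span_snd_eq_top hS]; exact Module.Finite.fg_top
  obtain ⟨t', ht', hspan⟩ := (Submodule.fg_span_iff_fg_span_finset_subset _).1 hM
  rw [← Set.image_univ] at ht'
  obtain ⟨t, -, rfl⟩ := Finset.subset_set_image_iff.1 ht'
  let G : Submodule B' (EtMil.glue B' φ) := Submodule.span B' ((s.image g ∪ t : Finset _) : Set _)
  refine ⟨⟨s.image g ∪ t, eq_top_iff.mpr fun x _ => ?_⟩⟩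
  show x ∈ G
  have hfst : ∀ n : N, ∃ y ∈ G, (y : N × M').1 = n := by
    intro n
    have hn : n ∈ Submodule.span B (s : Set N) := hs ▸ Submodule.mem_top
    induction hn using Submodule.span_induction with
    | mem n hn =>
      exact ⟨g n, Submodule.subset_span (by simp only [Finset.coe_union, Finset.coe_image]; exact Or.inl ⟨n, hn, rfl⟩), hg n⟩
    | zero => exact ⟨0, zero_mem _, rfl⟩
    | add a b _ _ ha hb =>
      obtain ⟨y, hy, rfl⟩ := ha
      obtain ⟨z, hz, rfl⟩ := hb
      exact ⟨y + z, add_mem hy hz, rfl⟩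
    | smul c n _ hn =>
      obtain ⟨y, hy, rfl⟩ := hn
      obtain ⟨c', rfl⟩ := hS.surjL c
      exact ⟨c' • y, G.smul_mem _ hy, (algebraMap_smul B c' _).symm⟩
  obtain ⟨y, hy, hxy⟩ := hfst (x : N × M').1
  have hfst0 : ((x - y : EtMil.glue B' φ) : N × M').1 = 0 := by
    rw [Submodule.coe_sub, Prod.fst_sub, hxy, sub_self]
  suffices ∀ w ∈ RingHom.ker (algebraMap A' A) • (⊤ : Submodule A' M'),
      ∃ z ∈ G, (z : N × M') = (0, w) by
    have hsnd : ((x - y : EtMil.glue B' φ) : N × M').2 ∈
        RingHom.ker (algebraMap A' A) • (⊤ : Submodule A' M') := by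
      refine Milnor.mem_smul_top_of_tmul_eq_zero hS.surjR ?_
      rw [← (show φ ((1 : A) ⊗ₜ[B] ((x - y : EtMil.glue B' φ) : N × M').1) =
          (1 : A) ⊗ₜ[A'] ((x - y : EtMil.glue B' φ) : N × M').2 from (x - y).2), hfst0, tmul_zero, map_zero]
    obtain ⟨z, hz, e⟩ := this _ hsnd
    have : x - y = z := Subtype.ext (by rw [e]; exact Prod.ext hfst0 rfl)
    rw [← sub_add_cancel x y, this]
    exact add_mem hz hy
  have key : ∀ m : M', ∀ i ∈ RingHom.ker (algebraMap A' A), ∃ z ∈ G, (z : N × M') = (0, i • m) := by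
    intro m
    have htop : Submodule.span A' (Set.range fun x : EtMil.glue B' φ => (x : N × M').2) = ⊤ :=
      Milnor.span_snd_eq_top hS
    rw [hspan] at htop
    have hm : m ∈ Submodule.span A' ((t.image fun x : EtMil.glue B' φ => (x : N × M').2 : Finset M') : Set M') :=
      htop ▸ Submodule.mem_top
    induction hm using Submodule.span_induction with
    | mem m hm =>
      obtain ⟨z, hz, rfl⟩ := Finset.mem_image.1 hm
      intro i hi
      obtain ⟨j, hj, rfl⟩ := hS.lift i hi
      refine ⟨j • z, G.smul_mem _ (Submodule.subset_span (Finset.mem_union_right _ hz)), Prod.ext ?_ ?_⟩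
      · show j • (z : N × M').1 = 0
        rw [← algebraMap_smul B j, hj, zero_smul]
      · show j • (z : N × M').2 = _
        rw [algebraMap_smul]
    | zero => exact fun i _ => ⟨0, zero_mem _, by simp; rfl⟩
    | add m₁ m₂ _ _ h₁ h₂ =>
      intro i hi
      obtain ⟨y₁, hy₁, e₁⟩ := h₁ i hi
      obtain ⟨y₂, hy₂, e₂⟩ := h₂ i hi
      exact ⟨y₁ + y₂, add_mem hy₁ hy₂, by rw [Submodule.coe_add, e₁, e₂, smul_add]; simp⟩
    | smul c m _ h =>
      intro i hi
      rw [← mul_smul]
      exact h _ (Ideal.mul_mem_right _ _ hi)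
  intro w hw
  induction hw using Submodule.smul_induction_on' with
  | smul i hi m _ => exact key m i hi
  | add w₁ _ w₂ _ h₁ h₂ =>
    obtain ⟨y₁, hy₁, e₁⟩ := h₁
    obtain ⟨y₂, hy₂, e₂⟩ := h₂
    exact ⟨y₁ + y₂, add_mem hy₁ hy₂, by rw [Submodule.coe_add, e₁, e₂]; simp⟩

end Finite

end GrothLib.MilnorRel10
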