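import Groth.Agent.Lib.MilnorRel10.Basic
import Mathlib.Algebra.Module.FinitePresentation

/-!
# Finite presentation of modules glued over the base change of a Milnor square
-/

set_option autoImplicit false
set_option linter.all false
set_option backward.isDefEq.respectTransparency false

universe u

open TensorProduct

namespace GrothLib.MilnorRel10

open Groth.Agent

section Ker

variable {B' X P XP : Type u} [CommRing B'] [CommRing X] [CommRing P] [CommRing XP]
  [Algebra B' X] [Algebra B' P] [Algebra B' XP] [Algebra P XP] [Algebra X XP]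
  [IsScalarTower B' P XP] [IsScalarTower B' X XP] [Algebra.IsPushout B' X P XP]

variable (X XP) in
theorem lTensor_eq_cancel {U V : Type u} [AddCommGroup U] [Module B' U] [Module P U] [IsScalarTower B' P U]
    [AddCommGroup V] [Module B' V] [Module P V] [IsScalarTower B' P V] (h : U →ₗ[P] V) (z : X ⊗[B'] U) :
    (Algebra.IsPushout.cancelBaseChange B' X P XP V).symm ((h.restrictScalars B').lTensor X z) =
      h.lTensor XP ((Algebra.IsPushout.cancelBaseChange B' X P XP U).symm z) := by
  induction z with
  | zero => simp
  | tmul x u => simp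
  | add a b ha hb => simp only [map_add, ha, hb]

variable {G : Type u} [AddCommGroup G] [Module B' G] [Module P G] [IsScalarTower B' P G]

variable (X XP) in
theorem exists_finset_ker [Module.Flat B' G] [Module.FinitePresentation XP (XP ⊗[P] G)] {m : ℕ}
    (π : (Fin m → P) →ₗ[P] G) (hπ : Function.Surjective π) :
    ∃ s : Finset (LinearMap.ker π), ∀ K₀ : Submodule P (LinearMap.ker π), (s : Set (LinearMap.ker π)) ⊆ (K₀ : Set (LinearMap.ker π)) →
      Function.Surjective ((K₀.subtype.restrictScalars B').lTensor X) := by
  have hsurj : Function.Surjective (π.baseChange XP) := LinearMap.lTensor_surjective XP hπ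
  have hfg : (LinearMap.ker (π.baseChange XP)).FG := Module.FinitePresentation.fg_ker _ hsurj
  haveI : Module.Finite XP (LinearMap.ker (π.baseChange XP)) := .of_fg hfg
  have hexact := lTensor_exact XP (LinearMap.exact_subtype_ker_map π) hπ
  have hinjB : Function.Injective (((LinearMap.ker π).subtype.restrictScalars B').lTensor X) :=
    LinearMap.lTensor_injective_of_exact_of_flat (π.restrictScalars B') hπ _ Subtype.val_injective
      (LinearMap.exact_subtype_ker_map π) X
  have hinj : Function.Injective ((LinearMap.ker π).subtype.lTensor XP) := by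
    intro a b hab
    obtain ⟨a, rfl⟩ := (Algebra.IsPushout.cancelBaseChange B' X P XP (LinearMap.ker π)).symm.surjective a
    obtain ⟨b, rfl⟩ := (Algebra.IsPushout.cancelBaseChange B' X P XP (LinearMap.ker π)).symm.surjective b
    rw [← lTensor_eq_cancel, ← lTensor_eq_cancel, EmbeddingLike.apply_eq_iff_eq] at hab
    rw [hinjB hab]
  let c : XP ⊗[P] LinearMap.ker π →ₗ[XP] LinearMap.ker (π.baseChange XP) :=
    ((LinearMap.ker π).subtype.baseChange XP).codRestrict _ fun x => hexact.apply_apply_eq_zero x
  haveI : Module.Finite XP (XP ⊗[P] LinearMap.ker π) := Module.Finite.equiv (LinearEquiv.ofBijective c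
    ⟨fun a b hab => hinj (congrArg Subtype.val hab), fun y => by
      obtain ⟨x, hx⟩ := (hexact y.1).mp y.2
      exact ⟨x, Subtype.ext hx⟩⟩).symm
  obtain ⟨s, hs⟩ := Glue.exists_finset_span (R := P) (M := LinearMap.ker π) XP
  refine ⟨s, fun K₀ hK z => ?_⟩
  obtain ⟨y, hy⟩ := hs K₀ hK ((Algebra.IsPushout.cancelBaseChange B' X P XP (LinearMap.ker π)).symm z)
  obtain ⟨y, rfl⟩ := (Algebra.IsPushout.cancelBaseChange B' X P XP K₀).symm.surjective y
  rw [← lTensor_eq_cancel X XP (U := ↥K₀) (V := ↥(LinearMap.ker π)) K₀.subtype, EmbeddingLike.apply_eq_iff_eq] at hy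
  exact ⟨y, hy⟩

theorem bijective_liftBaseChange_pushout {Q : Type u} [AddCommGroup Q] [Module X Q] [Module B' Q]
    [IsScalarTower B' X Q] [Module XP Q] [Module P Q] [IsScalarTower P XP Q] [IsScalarTower X XP Q]
    [IsScalarTower B' P Q] (f : G →ₗ[P] Q) (hf : Function.Bijective (f.liftBaseChange XP)) :
    Function.Bijective ((f.restrictScalars B').liftBaseChange X) := by
  have : ∀ z, (f.restrictScalars B').liftBaseChange X z =
      f.liftBaseChange XP ((Algebra.IsPushout.cancelBaseChange B' X P XP G).symm z) := fun z => by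
    induction z with
    | zero => simp
    | tmul x g =>
      rw [LinearMap.liftBaseChange_tmul, Algebra.IsPushout.cancelBaseChange_symm_tmul,
        LinearMap.liftBaseChange_tmul, algebraMap_smul, LinearMap.restrictScalars_apply]
    | add a b ha hb => simp only [map_add, ha, hb]
  rw [funext this]
  exact hf.comp (Algebra.IsPushout.cancelBaseChange B' X P XP G).symm.bijective

end Ker

variable {B' B A' A : Type u} [CommRing B'] [CommRing B] [CommRing A'] [CommRing A]
  [Algebra B' B] [Algebra B' A'] [Algebra B A] [Algebra A' A] [Algebra B' A]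
  [IsScalarTower B' B A] [IsScalarTower B' A' A]
  {D' D C' C : Type u} [CommRing D'] [CommRing D] [CommRing C'] [CommRing C]
  [Algebra B' D'] [Algebra B D] [Algebra A' C'] [Algebra A C]
  [Algebra D' D] [Algebra B' D] [IsScalarTower B' B D] [IsScalarTower B' D' D] [Algebra.IsPushout B' B D' D]
  [Algebra D' C'] [Algebra B' C'] [IsScalarTower B' A' C'] [IsScalarTower B' D' C'] [Algebra.IsPushout B' A' D' C']
  [Algebra D' C] [Algebra B' C] [IsScalarTower B' A C] [IsScalarTower B' D' C] [Algebra.IsPushout B' A D' C]
  [Algebra D C] [IsScalarTower D' D C]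
  [Algebra C' C] [IsScalarTower D' C' C] [Algebra A' C] [IsScalarTower A' A C] [IsScalarTower A' C' C]

theorem finite_of_pair_generators (hsq : EtMil.IsFibreSquare B' B A' A) {P M : Type u} [CommRing P]
    [Algebra B' P] [AddCommGroup M] [Module B' M] [Module P M] [IsScalarTower B' P M] (s t : Finset M)
    (hs : ∀ K₀ : Submodule P M, (s : Set M) ⊆ (K₀ : Set M) →
      Function.Surjective ((K₀.subtype.restrictScalars B').lTensor B))
    (ht : ∀ K₀ : Submodule P M, (t : Set M) ⊆ (K₀ : Set M) →
      Function.Surjective ((K₀.subtype.restrictScalars B').lTensor A')) : Module.Finite P M := by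
  classical
  let K₀ : Submodule P M := Submodule.span P ((s ∪ t : Finset M) : Set M)
  have hK := Milnor.surjective_of_pair hsq (N := ↥K₀) (L := M) (K₀.subtype.restrictScalars B')
    (hs K₀ fun x hx => Submodule.subset_span (Finset.mem_union_left _ hx))
    (ht K₀ fun x hx => Submodule.subset_span (Finset.mem_union_right _ hx))
  refine ⟨⟨s ∪ t, eq_top_iff.mpr fun x _ => ?_⟩⟩
  obtain ⟨⟨y, hy⟩, rfl⟩ := hK x
  exact hy

theorem glue_finitePresentation (hsq : EtMil.IsFibreSquare B' B A' A)
    {N M' : Type u} [AddCommGroup N] [Module D N] [Module D' N] [IsScalarTower D' D N]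
    [AddCommGroup M'] [Module C' M'] [Module D' M'] [IsScalarTower D' C' M']
    (φ : C ⊗[D] N ≃ₗ[C] C ⊗[C'] M')
    [Module B N] [IsScalarTower B D N] [Module A' M'] [IsScalarTower A' C' M']
    [Module.FinitePresentation D N] [Module.Flat B N] [Module.FinitePresentation C' M'] [Module.Flat A' M'] :
    Module.FinitePresentation D' (EtMil.glue D' φ) := by
  classical
  have hS := sq_pushout D' D C' C (Milnor.sq_of_isFibreSquare hsq)
  letI : Module B' N := Module.compHom N (algebraMap B' D')
  haveI : IsScalarTower B' D' N := IsScalarTower.of_algebraMap_smul fun r x => rfl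
  haveI : IsScalarTower B' B N := IsScalarTower.of_algebraMap_smul fun r x => by
    rw [← algebraMap_smul D (algebraMap B' B r) x, ← IsScalarTower.algebraMap_apply,
      IsScalarTower.algebraMap_apply B' D' D, algebraMap_smul]
    rfl
  letI : Module B' M' := Module.compHom M' (algebraMap B' D')
  haveI : IsScalarTower B' D' M' := IsScalarTower.of_algebraMap_smul fun r x => rfl
  haveI : IsScalarTower B' A' M' := IsScalarTower.of_algebraMap_smul fun r x => by
    rw [← algebraMap_smul C' (algebraMap B' A' r) x, ← IsScalarTower.algebraMap_apply,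
      IsScalarTower.algebraMap_apply B' D' C', algebraMap_smul]
    rfl
  have hD : Function.Bijective ((EtMil.glueFst D' φ).liftBaseChange D) :=
    Milnor.bijective_liftBaseChange_fst hS
  have hC : Function.Bijective ((EtMil.glueSnd D' φ).liftBaseChange C') :=
    Milnor.bijective_liftBaseChange_snd hS
  let eB := LinearEquiv.ofBijective _ (bijective_liftBaseChange_pushout (B' := B') (X := B) (XP := D) _ hD)
  let eA := LinearEquiv.ofBijective _ (bijective_liftBaseChange_pushout (B' := B') (X := A') (XP := C') _ hC)
  haveI : Module.Flat B (B ⊗[B'] EtMil.glue D' φ) := Module.Flat.of_linearEquiv eB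
  haveI : Module.Flat A' (A' ⊗[B'] EtMil.glue D' φ) := Module.Flat.of_linearEquiv eA
  haveI : Module.Flat B' (EtMil.glue D' φ) := Milnor.flat_of_pair hsq
  haveI : Module.FinitePresentation D (D ⊗[D'] EtMil.glue D' φ) :=
    Module.FinitePresentation.of_equiv (LinearEquiv.ofBijective _ hD).symm
  haveI : Module.FinitePresentation C' (C' ⊗[D'] EtMil.glue D' φ) :=
    Module.FinitePresentation.of_equiv (LinearEquiv.ofBijective _ hC).symm
  haveI := glue_finite (φ := φ) hS
  obtain ⟨m, π, hπ⟩ := Module.Finite.exists_fin' D' (EtMil.glue D' φ)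
  obtain ⟨s, hs⟩ := exists_finset_ker (B' := B') B D π hπ
  obtain ⟨t, ht⟩ := exists_finset_ker (B' := B') A' C' π hπ
  haveI : Module.Finite D' (LinearMap.ker π) := finite_of_pair_generators (B := B) (A' := A') (A := A) hsq s t hs ht
  exact Module.finitePresentation_of_surjective π hπ (Module.Finite.iff_fg.mp inferInstance)

end GrothLib.MilnorRel10
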